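import Mathlib

/-!
# Schanuel lemma for cotangent spaces of formally smooth extensions
-/

set_option autoImplicit false
universe u v w

open TensorProduct

namespace GrothLib.CotSchanuel

section LinAlg

variable {S A B A' B' : Type*} [CommRing S] [AddCommGroup A] [AddCommGroup B] [AddCommGroup A'] [AddCommGroup B']
  [Module S A] [Module S B] [Module S A'] [Module S B']

/-- Homotopy equivalent two-term complexes give `A × B' ≅ A' × B`. -/
theorem nonempty_equiv_of_homotopy (d : A →ₗ[S] B) (d' : A' →ₗ[S] B') (f1 : A →ₗ[S] A') (f0 : B →ₗ[S] B')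
    (g1 : A' →ₗ[S] A) (g0 : B' →ₗ[S] B) (h : B →ₗ[S] A) (h' : B' →ₗ[S] A')
    (hf : ∀ a, d' (f1 a) = f0 (d a)) (hg : ∀ a, d (g1 a) = g0 (d' a))
    (h1 : ∀ a, a - g1 (f1 a) = h (d a)) (h0 : ∀ b, b - g0 (f0 b) = d (h b))
    (h1' : ∀ a, a - f1 (g1 a) = h' (d' a)) (h0' : ∀ b, b - f0 (g0 b) = d' (h' b)) :
    Nonempty ((A × B') ≃ₗ[S] (A' × B)) := by
  let Φ : A × B' →ₗ[S] A' × B :=
    (f1 ∘ₗ LinearMap.fst S A B' + h' ∘ₗ LinearMap.snd S A B').prod
      (d ∘ₗ LinearMap.fst S A B' - g0 ∘ₗ LinearMap.snd S A B')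
  let Ψ : A' × B →ₗ[S] A × B' :=
    (g1 ∘ₗ LinearMap.fst S A' B + h ∘ₗ LinearMap.snd S A' B).prod
      (d' ∘ₗ LinearMap.fst S A' B - f0 ∘ₗ LinearMap.snd S A' B)
  have e1 : ∀ x : A × B', Ψ (Φ x) = (x.1 + (g1 (h' x.2) - h (g0 x.2)), x.2) := by
    rintro ⟨a, b⟩
    refine Prod.ext ?_ ?_
    · show g1 (f1 a + h' b) + h (d a - g0 b) = a + (g1 (h' b) - h (g0 b))
      rw [map_add, map_sub, ← h1 a]; abel
    · show d' (f1 a + h' b) - f0 (d a - g0 b) = b
      rw [map_add, map_sub, hf, ← h0' b]; abel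
  have e2 : ∀ x : A' × B, Φ (Ψ x) = (x.1 + (f1 (h x.2) - h' (f0 x.2)), x.2) := by
    rintro ⟨a, b⟩
    refine Prod.ext ?_ ?_
    · show f1 (g1 a + h b) + h' (d' a - f0 b) = a + (f1 (h b) - h' (f0 b))
      rw [map_add, map_sub, ← h1' a]; abel
    · show d (g1 a + h b) - g0 (d' a - f0 b) = b
      rw [map_add, map_sub, hg, ← h0 b]; abel
  refine ⟨LinearEquiv.ofBijective Φ ⟨fun x y hxy => ?_, fun z => ?_⟩⟩
  · have := congrArg Ψ hxy
    rw [e1, e1, Prod.mk.injEq] at this
    exact Prod.ext (by simpa [this.2] using this.1) this.2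
  · refine ⟨Ψ (z.1 - (f1 (h z.2) - h' (f0 z.2)), z.2), ?_⟩
    rw [e2]
    exact Prod.ext (sub_add_cancel _ _) rfl

end LinAlg

open Algebra

/-- Schanuel's lemma for conormal modules of formally smooth extensions. -/
theorem nonempty_cotangent_prod_equiv {R : Type v} {S : Type w} [CommRing R] [CommRing S] [Algebra R S]
    (P₁ P₂ : Extension.{u} R S) [FormallySmooth R P₁.Ring] [FormallySmooth R P₂.Ring] :
    Nonempty ((P₁.Cotangent × P₂.CotangentSpace) ≃ₗ[S] (P₂.Cotangent × P₁.CotangentSpace)) := by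
  let f := P₁.homInfinitesimal P₂
  let g := P₂.homInfinitesimal P₁
  obtain ⟨e⟩ := nonempty_equiv_of_homotopy P₁.infinitesimal.cotangentComplex P₂.infinitesimal.cotangentComplex
    (Extension.Cotangent.map f) (Extension.CotangentSpace.map f)
    (Extension.Cotangent.map g) (Extension.CotangentSpace.map g)
    ((Extension.Hom.id _).sub (g.comp f)) ((Extension.Hom.id _).sub (f.comp g))
    (fun a => (Extension.CotangentSpace.map_cotangentComplex f a).symm)
    (fun a => (Extension.CotangentSpace.map_cotangentComplex g a).symm)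
    (fun a => by
      have := LinearMap.congr_fun (Extension.Cotangent.map_sub_map (Extension.Hom.id _) (g.comp f)) a
      simpa [Extension.Cotangent.map_id, Extension.Cotangent.map_comp] using this)
    (fun b => by
      have := LinearMap.congr_fun (Extension.CotangentSpace.map_sub_map (Extension.Hom.id _) (g.comp f)) b
      simpa [Extension.CotangentSpace.map_id, Extension.CotangentSpace.map_comp] using this)
    (fun a => by
      have := LinearMap.congr_fun (Extension.Cotangent.map_sub_map (Extension.Hom.id _) (f.comp g)) a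
      simpa [Extension.Cotangent.map_id, Extension.Cotangent.map_comp] using this)
    (fun b => by
      have := LinearMap.congr_fun (Extension.CotangentSpace.map_sub_map (Extension.Hom.id _) (f.comp g)) b
      simpa [Extension.CotangentSpace.map_id, Extension.CotangentSpace.map_comp] using this)
  let c₁ := LinearEquiv.ofBijective _ (Extension.Cotangent.map_toInfinitesimal_bijective P₁)
  let c₂ := LinearEquiv.ofBijective _ (Extension.Cotangent.map_toInfinitesimal_bijective P₂)
  let s₁ := LinearEquiv.ofBijective _ (Extension.CotangentSpace.map_toInfinitesimal_bijective P₁)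
  let s₂ := LinearEquiv.ofBijective _ (Extension.CotangentSpace.map_toInfinitesimal_bijective P₂)
  exact ⟨(c₁.prodCongr s₂) ≪≫ₗ e ≪≫ₗ (c₂.symm.prodCongr s₁.symm)⟩

/-- The cotangent space of a polynomial extension is free. -/
noncomputable def cotangentSpaceEquivPi {R : Type v} {S : Type u} [CommRing R] [CommRing S] [Algebra R S] {n : ℕ}
    (α : MvPolynomial (Fin n) R →ₐ[R] S) (hα : Function.Surjective α) :
    (Extension.ofSurjective α hα).CotangentSpace ≃ₗ[S] (Fin n → S) :=
  letI := α.toRingHom.toAlgebra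
  ((KaehlerDifferential.mvPolynomialBasis R (Fin n)).baseChange S).equivFun

end GrothLib.CotSchanuel
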